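import Cfsg.Agent.TTClass.OrthModels
import Cfsg.Agent.ExtraTwo.Siegel
import Cfsg.Agent.ExtraTwo.Near

/-!
The plus type quadratic space of dimension eight over the field with two elements.
-/

set_option autoImplicit false
set_option maxRecDepth 100000
set_option synthInstance.maxSize 4000

namespace Cfsg.Agent.Co1Type

open Cfsg.Agent.ExtraTwo Cfsg.Agent.TTClass

attribute [local instance 2000] List.decidableBAll List.decidableBEx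

/-- The space. -/
abbrev V8 : Type := Fin 4 ⊕ Fin 4 → ZMod 2

/-- The form. -/
abbrev q8 : V8 → ZMod 2 := Cfsg.quadFormPlus 4 (ZMod 2)

/-- The polar form. -/
abbrev b8 : V8 →ₗ[ZMod 2] V8 →ₗ[ZMod 2] ZMod 2 := OrthModels.bPlus 4

/-- A vector from its coordinates. -/
def mk8 (e₀ e₁ e₂ e₃ f₀ f₁ f₂ f₃ : ZMod 2) : V8 := Sum.elim ![e₀, e₁, e₂, e₃] ![f₀, f₁, f₂, f₃]

/-- A singular vector. -/
def s8 : V8 := mk8 1 0 0 0 0 0 0 0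

/-- Its partner. -/
def f8 : V8 := mk8 0 0 0 0 1 0 0 0

/-- A singular vector orthogonal to both. -/
def wa : V8 := mk8 0 1 0 0 0 0 0 0

/-- A singular vector orthogonal to both and to `wa`. -/
def da : V8 := mk8 0 0 1 0 0 0 0 0

/-- A non-singular vector orthogonal to both. -/
def wc : V8 := mk8 0 1 0 0 0 1 0 0

/-- A non-singular vector orthogonal to both and not to `wc`. -/
def dc : V8 := mk8 0 1 1 0 0 0 1 0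

/-- A vector orthogonal to `s8`, `wc`, `dc`. -/
def E0 : V8 := mk8 0 0 0 1 0 0 0 0

/-- A vector orthogonal to `s8`, `wc`, `dc`. -/
def F0 : V8 := mk8 0 0 0 0 0 0 0 1

/-- A vector orthogonal to `s8`, `wc`, `dc`. -/
def E1 : V8 := mk8 0 0 1 0 0 0 1 0

/-- A vector orthogonal to `s8`, `wc`, `dc`. -/
def E2 : V8 := mk8 0 1 1 0 0 1 0 0

theorem hyp2 : Hyp2 q8 b8 s8 f8 :=
  ⟨OrthModels.qf_plus 4, by decide +kernel, by decide +kernel, by decide +kernel⟩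

/-- Pairs generating a transitive action. -/
def gAll : List (V8 × V8) :=
  [(mk8 0 1 1 0 1 0 1 0, mk8 0 1 1 1 0 0 0 1),
   (mk8 1 1 1 0 0 1 0 1, mk8 1 0 0 0 1 0 0 0),
   (mk8 0 1 1 0 1 1 0 0, mk8 0 0 1 0 0 0 1 0),
   (mk8 1 0 1 1 1 0 0 0, mk8 0 1 0 0 1 1 0 0),
   (mk8 0 0 1 1 1 1 1 0, mk8 1 1 1 0 1 0 0 0),
   (mk8 0 1 0 0 0 1 0 1, mk8 1 1 1 0 1 0 0 1),
   (mk8 0 0 1 0 1 0 1 0, mk8 1 0 1 1 1 0 1 1),
   (mk8 1 0 1 0 0 0 1 0, mk8 1 0 0 0 1 1 0 0),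
   (mk8 0 0 0 1 0 0 1 1, mk8 1 0 0 1 1 1 0 0),
   (mk8 1 0 0 0 1 0 0 1, mk8 1 0 0 1 1 1 1 0),
   (mk8 1 1 0 1 1 1 1 1, mk8 1 1 1 1 1 0 0 0),
   (mk8 1 0 0 1 0 0 0 1, mk8 1 0 0 0 1 0 0 0),
   (mk8 1 0 1 0 1 0 0 1, mk8 0 1 0 0 0 1 1 1),
   (mk8 1 0 1 1 0 1 0 1, mk8 0 1 1 1 0 0 1 0),
   (mk8 0 0 1 0 1 1 1 0, mk8 1 1 0 1 1 1 1 1),
   (mk8 1 1 1 0 1 0 0 1, mk8 1 0 0 1 0 0 1 1),
   (mk8 1 0 0 0 1 1 0 1, mk8 0 1 1 1 1 0 0 1),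
   (mk8 1 0 0 0 1 1 1 0, mk8 0 0 1 1 0 0 0 1)]

/-- Pairs generating a transitive action. -/
def gSing : List (V8 × V8) :=
  [(mk8 0 1 0 1 0 0 0 1, mk8 0 0 1 1 0 1 0 1),
   (mk8 0 1 1 1 0 1 0 0, mk8 0 0 0 1 0 1 1 1),
   (mk8 0 1 1 1 0 0 1 0, mk8 0 1 0 1 0 1 0 0),
   (mk8 0 1 0 0 0 1 0 0, mk8 0 1 1 0 0 0 1 1),
   (mk8 0 1 0 1 0 1 1 0, mk8 0 0 0 1 0 0 1 1),
   (mk8 0 0 1 0 0 0 1 0, mk8 0 1 1 0 0 1 0 1),
   (mk8 0 1 0 1 0 0 1 1, mk8 0 1 1 0 0 1 0 1)]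

/-- Pairs generating a transitive action. -/
def gNons : List (V8 × V8) :=
  [(mk8 0 1 0 1 0 0 0 1, mk8 0 0 1 1 0 1 0 1),
   (mk8 0 1 0 0 0 1 1 1, mk8 0 1 1 1 0 0 0 1),
   (mk8 0 1 0 1 0 0 1 1, mk8 0 0 0 1 0 1 1 1),
   (mk8 0 1 1 0 0 0 1 0, mk8 0 0 1 0 0 1 1 0),
   (mk8 0 1 1 0 0 0 1 1, mk8 0 1 0 0 0 1 0 0),
   (mk8 0 0 1 0 0 0 1 1, mk8 0 0 1 1 0 1 1 0),
   (mk8 0 1 0 1 0 0 0 1, mk8 0 0 0 1 0 1 0 1)]

/-- Pairs generating a transitive action. -/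
def gFixA : List (V8 × V8) :=
  [(mk8 0 1 0 1 0 0 0 1, mk8 0 0 1 0 0 0 1 1),
   (mk8 0 1 0 1 0 0 0 1, mk8 0 0 1 1 0 0 1 0),
   (mk8 0 0 0 1 0 0 1 1, mk8 0 0 1 0 0 0 1 0),
   (mk8 0 1 1 1 0 0 0 1, mk8 0 0 0 1 0 0 1 1),
   (mk8 0 0 1 0 0 0 1 0, mk8 0 1 0 1 0 0 1 1),
   (mk8 0 0 0 1 0 0 1 1, mk8 0 0 1 1 0 0 0 1)]

/-- Pairs generating a transitive action. -/
def gFixC : List (V8 × V8) :=
  [(mk8 0 1 1 1 0 1 0 0, mk8 0 1 0 0 0 1 0 1),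
   (mk8 0 0 0 1 0 0 1 1, mk8 0 1 1 0 0 1 0 0),
   (mk8 0 1 0 1 0 1 0 0, mk8 0 0 1 1 0 0 0 1)]

/-- The orthogonal of the hyperbolic pair. -/
def dList : List V8 :=
  [mk8 0 0 0 0 0 0 0 0, mk8 0 0 0 0 0 0 0 1, mk8 0 0 0 0 0 0 1 0,
   mk8 0 0 0 0 0 0 1 1, mk8 0 0 0 0 0 1 0 0, mk8 0 0 0 0 0 1 0 1,
   mk8 0 0 0 0 0 1 1 0, mk8 0 0 0 0 0 1 1 1, mk8 0 0 0 1 0 0 0 0,
   mk8 0 0 0 1 0 0 0 1, mk8 0 0 0 1 0 0 1 0, mk8 0 0 0 1 0 0 1 1,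
   mk8 0 0 0 1 0 1 0 0, mk8 0 0 0 1 0 1 0 1, mk8 0 0 0 1 0 1 1 0,
   mk8 0 0 0 1 0 1 1 1, mk8 0 0 1 0 0 0 0 0, mk8 0 0 1 0 0 0 0 1,
   mk8 0 0 1 0 0 0 1 0, mk8 0 0 1 0 0 0 1 1, mk8 0 0 1 0 0 1 0 0,
   mk8 0 0 1 0 0 1 0 1, mk8 0 0 1 0 0 1 1 0, mk8 0 0 1 0 0 1 1 1,
   mk8 0 0 1 1 0 0 0 0, mk8 0 0 1 1 0 0 0 1, mk8 0 0 1 1 0 0 1 0,
   mk8 0 0 1 1 0 0 1 1, mk8 0 0 1 1 0 1 0 0, mk8 0 0 1 1 0 1 0 1,
   mk8 0 0 1 1 0 1 1 0, mk8 0 0 1 1 0 1 1 1, mk8 0 1 0 0 0 0 0 0,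
   mk8 0 1 0 0 0 0 0 1, mk8 0 1 0 0 0 0 1 0, mk8 0 1 0 0 0 0 1 1,
   mk8 0 1 0 0 0 1 0 0, mk8 0 1 0 0 0 1 0 1, mk8 0 1 0 0 0 1 1 0,
   mk8 0 1 0 0 0 1 1 1, mk8 0 1 0 1 0 0 0 0, mk8 0 1 0 1 0 0 0 1,
   mk8 0 1 0 1 0 0 1 0, mk8 0 1 0 1 0 0 1 1, mk8 0 1 0 1 0 1 0 0,
   mk8 0 1 0 1 0 1 0 1, mk8 0 1 0 1 0 1 1 0, mk8 0 1 0 1 0 1 1 1,
   mk8 0 1 1 0 0 0 0 0, mk8 0 1 1 0 0 0 0 1, mk8 0 1 1 0 0 0 1 0,
   mk8 0 1 1 0 0 0 1 1, mk8 0 1 1 0 0 1 0 0, mk8 0 1 1 0 0 1 0 1,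
   mk8 0 1 1 0 0 1 1 0, mk8 0 1 1 0 0 1 1 1, mk8 0 1 1 1 0 0 0 0,
   mk8 0 1 1 1 0 0 0 1, mk8 0 1 1 1 0 0 1 0, mk8 0 1 1 1 0 0 1 1,
   mk8 0 1 1 1 0 1 0 0, mk8 0 1 1 1 0 1 0 1, mk8 0 1 1 1 0 1 1 0,
   mk8 0 1 1 1 0 1 1 1]

/-- At most two moves. -/
def Reach2 (L : List (V8 × V8)) (a b : V8) : Prop :=
  b = a ∨ ∃ p ∈ L, b = pairMap b8 p.1 p.2 a ∨
    ∃ p' ∈ L, b = pairMap b8 p'.1 p'.2 (pairMap b8 p.1 p.2 a)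

/-- The pairs of a list are admissible for `P`. -/
def Ok (P : V8 → Prop) (L : List (V8 × V8)) : Prop :=
  ∀ p ∈ L, q8 p.1 = 1 ∧ q8 p.2 = 1 ∧ b8 p.1 p.2 = 1 ∧ P p.1 ∧ P p.2

theorem gAll_ok : Ok (fun _ => True) gAll := by unfold Ok; decide +kernel

theorem gSing_ok : Ok (perp2 b8 s8 f8) gSing := by unfold Ok perp2; decide +kernel

theorem gNons_ok : Ok (perp2 b8 s8 f8) gNons := by unfold Ok perp2; decide +kernel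

theorem gFixA_ok : Ok (fun u => perp2 b8 s8 f8 u ∧ b8 u wa = 0) gFixA := by
  unfold Ok perp2; decide +kernel

theorem gFixC_ok : Ok (fun u => perp2 b8 s8 f8 u ∧ b8 u wc = 0) gFixC := by
  unfold Ok perp2; decide +kernel

theorem orb_of_reach {L : List (V8 × V8)} {P : V8 → Prop} (hL : Ok P L) {a b : V8}
    (h : Reach2 L a b) : Orb q8 b8 P a b := by
  have st : ∀ p ∈ L, ∀ x, Step q8 b8 P x (pairMap b8 p.1 p.2 x) := fun p hp x =>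
    ⟨p.1, p.2, (hL p hp).2.2.2.1, (hL p hp).2.2.2.2, (hL p hp).1, (hL p hp).2.1, (hL p hp).2.2.1, rfl⟩
  rcases h with rfl | ⟨p, hp, rfl | ⟨p', hp', rfl⟩⟩
  · exact Relation.ReflTransGen.refl
  · exact Relation.ReflTransGen.single (st p hp a)
  · exact (Relation.ReflTransGen.single (st p hp a)).tail (st p' hp' _)

theorem mem_dList : ∀ v, b8 v s8 = 0 ∧ b8 v f8 = 0 → v ∈ dList := by decide +kernel

theorem dList_perp : ∀ v ∈ dList, b8 v s8 = 0 ∧ b8 v f8 = 0 := by decide +kernel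

theorem reach_all : ∀ a, q8 a = 0 → a ≠ 0 → Reach2 gAll s8 a := by
  unfold Reach2; decide +kernel

theorem reach_sing : ∀ a ∈ dList, q8 a = 0 → a ≠ 0 → Reach2 gSing wa a := by
  unfold Reach2; decide +kernel

theorem reach_nons : ∀ a ∈ dList, q8 a = 1 → Reach2 gNons wc a := by
  unfold Reach2; decide +kernel

theorem reach_fixA : ∀ d ∈ dList, q8 d = 0 → b8 d wa = 0 → d ≠ 0 → d ≠ wa → Reach2 gFixA da d := by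
  unfold Reach2; decide +kernel

theorem reach_fixC : ∀ d ∈ dList, q8 d = 1 → b8 d wc = 1 →
    Reach2 gFixC dc d ∨ Reach2 gFixC dc (d + wc) := by
  unfold Reach2; decide +kernel


theorem fixw : ∀ w ∈ dList, q8 w = 0 → w ≠ 0 → ∀ x ∈ dList, x = 0 ∨ x = w ∨
    ∃ u ∈ dList, q8 u = 1 ∧ b8 u w = 0 ∧ b8 x u = 1 ∧
      ∃ v ∈ dList, q8 v = 1 ∧ b8 v w = 0 ∧ b8 u v = 1 := by decide +kernel

theorem neighbour : ∀ d ∈ dList, d ≠ 0 → q8 d = 0 → ∃ d' ∈ dList, q8 d' = 0 ∧ b8 d d' = 1 := by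
  decide +kernel

theorem span : ∀ w ∈ dList, ∃ a ∈ dList, q8 a = 0 ∧ ∃ b ∈ dList, q8 b = 0 ∧ w = a + b := by
  decide +kernel

theorem triple : ∃ a ∈ dList, q8 a = 0 ∧ ∃ b ∈ dList, q8 b = 0 ∧ b8 a b = 1 ∧ ∃ c ∈ dList,
    q8 c = 0 ∧ b8 b c = 1 ∧ b8 a c = 1 := by decide +kernel

theorem orb_symm {P : V8 → Prop} {a b : V8} (h : Orb q8 b8 P a b) : Orb q8 b8 P b a :=
  orb_reverse hyp2.qf h

theorem model : Model q8 b8 s8 f8 where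
  hp := hyp2
  trans a ha ha0 := orb_of_reach gAll_ok (reach_all a ha ha0)
  transD w w' hw hw' h0 h0' he := by
    rcases OrthF2.z2 (q8 w) with k | k
    · exact (orb_symm (orb_of_reach gSing_ok (reach_sing w (mem_dList w hw) k h0))).trans
        (orb_of_reach gSing_ok (reach_sing w' (mem_dList w' hw') (he ▸ k) h0'))
    · exact (orb_symm (orb_of_reach gNons_ok (reach_nons w (mem_dList w hw) k))).trans
        (orb_of_reach gNons_ok (reach_nons w' (mem_dList w' hw') (he ▸ k)))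
  neighbour d hd h0 hq := by
    obtain ⟨d', hd', h1, h2⟩ := neighbour d (mem_dList d hd) h0 hq
    exact ⟨d', dList_perp d' hd', h1, h2⟩
  fixw w hw h0 hq x hx hall := by
    rcases fixw w (mem_dList w hw) hq h0 x (mem_dList x hx) with e | e |
      ⟨u, hu, qu, uw, xu, v, hv, qv, vw, uv⟩
    · exact Or.inl e
    · exact Or.inr e
    · rw [hall u v (dList_perp u hu) (dList_perp v hv) uw vw qu qv uv] at xu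
      exact absurd xu zero_ne_one
  triple := by
    obtain ⟨a, ha, qa, b, hb, qb, ab, c, hc, qc, bc, ac⟩ := triple
    exact ⟨a, b, c, dList_perp a ha, dList_perp b hb, dList_perp c hc, qa, qb, qc, ab, bc, ac⟩
  span w hw := by
    obtain ⟨a, ha, qa, b, hb, qb, e⟩ := span w (mem_dList w hw)
    exact ⟨a, b, dList_perp a ha, dList_perp b hb, qa, qb, e⟩
  cardD := by
    have e : {x : V8 | perp2 b8 s8 f8 x} = ↑dList.toFinset := by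
      ext x
      simp only [Set.mem_setOf_eq, List.coe_toFinset]
      exact ⟨mem_dList x, dList_perp x⟩
    have h64 : dList.toFinset.card = 64 := by decide +kernel
    rw [show Nat.card {x // perp2 b8 s8 f8 x} = 64 by
      rw [← h64, ← Set.ncard_coe_finset, ← e, ← Nat.card_coe_set_eq]; rfl]
    rfl

theorem orb_fixA {d : V8} (hd : perp2 b8 s8 f8 d) (hq : q8 d = 0) (hB : b8 d wa = 0) (h0 : d ≠ 0)
    (h1 : d ≠ wa) : Orb q8 b8 (fun u => perp2 b8 s8 f8 u ∧ b8 u wa = 0) da d :=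
  orb_of_reach gFixA_ok (reach_fixA d (mem_dList d hd) hq hB h0 h1)

theorem orb_fixC {d : V8} (hd : perp2 b8 s8 f8 d) (hq : q8 d = 1) (hB : b8 d wc = 1) :
    Orb q8 b8 (fun u => perp2 b8 s8 f8 u ∧ b8 u wc = 0) dc d ∨
      Orb q8 b8 (fun u => perp2 b8 s8 f8 u ∧ b8 u wc = 0) dc (d + wc) :=
  (reach_fixC d (mem_dList d hd) hq hB).imp (orb_of_reach gFixC_ok) (orb_of_reach gFixC_ok)

theorem consts_a : perp2 b8 s8 f8 wa ∧ perp2 b8 s8 f8 da ∧ q8 wa = 0 ∧ q8 da = 0 ∧ b8 da wa = 0 ∧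
    wa ≠ 0 ∧ da ≠ 0 ∧ da ≠ wa := by
  unfold perp2; decide +kernel

theorem consts_c : perp2 b8 s8 f8 wc ∧ perp2 b8 s8 f8 dc ∧ q8 wc = 1 ∧ q8 dc = 1 ∧
    b8 dc wc = 1 ∧ wc ≠ 0 := by
  unfold perp2; decide +kernel

/-- Two pairs whose product exchanges `dc` and `dc + wc`. -/
def sw : (V8 × V8) × (V8 × V8) :=
  ((mk8 0 0 0 1 0 0 0 1, mk8 0 0 1 0 0 1 1 1), (mk8 0 0 1 1 0 1 1 0, mk8 0 1 1 1 0 0 1 0))

theorem sw_ok : (q8 sw.1.1 = 1 ∧ q8 sw.1.2 = 1 ∧ b8 sw.1.1 sw.1.2 = 1) ∧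
    (q8 sw.2.1 = 1 ∧ q8 sw.2.2 = 1 ∧ b8 sw.2.1 sw.2.2 = 1) ∧
    (∀ v, v = s8 ∨ v = wc → pairMap b8 sw.2.1 sw.2.2 (pairMap b8 sw.1.1 sw.1.2 v) = v) ∧
    pairMap b8 sw.2.1 sw.2.2 (pairMap b8 sw.1.1 sw.1.2 (dc + wc)) = dc := by decide +kernel

/-- The configuration of a two-dimensional displacement in the orthogonal of the pair. -/
theorem plane_facts : ∀ w ∈ dList, q8 w = 0 → b8 w wa = 0 → w ≠ 0 → w ≠ wa →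
    ∀ σ ∈ dList, b8 σ wa = 0 → b8 σ w = 0 → σ ≠ 0 → σ ≠ wa → σ ≠ w → σ ≠ wa + w →
    (∀ d ∈ dList, b8 d wa = 0 → b8 d w = 0 → b8 d σ = q8 σ → q8 d = 0) ∧
      ∃ τ ∈ dList, b8 τ wa = 0 ∧ b8 τ w = 0 ∧ b8 τ σ = 1 := by decide +kernel

theorem axis_of_perp : ∀ a, q8 a = 0 → a ≠ 0 → b8 a s8 = 0 → b8 a E0 = 0 → b8 a F0 = 0 →
    b8 a E1 = 0 → b8 a E2 = 0 → a = s8 := by decide +kernel

theorem vec_of_perp : ∀ w ∈ dList, b8 w E0 = 0 → b8 w F0 = 0 → b8 w E1 = 0 → b8 w E2 = 0 →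
    w = 0 ∨ q8 w = 1 := by decide +kernel

theorem perpA_data : ∀ x, x = s8 ∨ x = wa ∨ x = da ∨ x = E0 ∨ x = F0 →
    b8 x s8 = 0 ∧ b8 x wa = 0 ∧ b8 x da = 0 := by decide +kernel

theorem perpC_data : ∀ x, x = s8 ∨ x = E0 ∨ x = F0 ∨ x = E1 ∨ x = E2 →
    b8 x s8 = 0 ∧ b8 x wc = 0 ∧ b8 x dc = 0 := by decide +kernel

theorem basisA : ∀ x : V8, x = x (.inl 0) • s8 + x (.inl 1) • wa + x (.inl 2) • da +
    x (.inl 3) • E0 + x (.inr 3) • F0 + x (.inr 0) • f8 + x (.inr 1) • mk8 0 0 0 0 0 1 0 0 +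
    x (.inr 2) • mk8 0 0 0 0 0 0 1 0 := by decide +kernel

theorem basisC : ∀ x : V8, x = x (.inl 0) • s8 + x (.inl 3) • E0 + x (.inr 3) • F0 +
    (x (.inr 2) + x (.inl 1) + x (.inr 1)) • E1 + (x (.inl 2) + x (.inr 2)) • E2 +
    x (.inr 0) • f8 + (x (.inl 2) + x (.inr 2) + x (.inr 1)) • wc +
    (x (.inl 1) + x (.inr 1)) • dc := by decide +kernel

end Cfsg.Agent.Co1Type
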